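import Groth.Agent.Sga7.H520.PuiseuxField
import Mathlib.Algebra.MonoidAlgebra.Basic
import Mathlib.RingTheory.TensorProduct.Maps
import Mathlib.Algebra.Polynomial.AlgebraMap
import Mathlib.Algebra.Polynomial.Div

/-!
# Puiseux' theorem

`V` strictly henselian DVR containing a field `k`, residue characteristic zero, uniformizer `π`,
`Ω` a separable closure of `K = Frac V`: `V ⊗[k[X]] k[ℚ] ≃ Ω`, `X` acting as `π` and as `[1]`.
-/

set_option autoImplicit false
set_option linter.unusedSectionVars false

universe u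

namespace Groth.Agent.Sga7.H520.Puiseux

open IsLocalRing Polynomial TensorProduct

/-- `k[ℚ]` as a `k[X]`-algebra through `X ↦ [1]`. -/
@[instance_reducible]
noncomputable def algQ (k : Type u) [Field k] : Algebra (Polynomial k) (AddMonoidAlgebra k ℚ) :=
  (Polynomial.aeval (AddMonoidAlgebra.single 1 1)).toAlgebra

section withAlgQ

attribute [local instance] algQ

section tensor

variable (V k : Type u) [CommRing V] [Field k] [Algebra k V] [Algebra (Polynomial k) V]
  [IsScalarTower k (Polynomial k) V]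

/-- The element `1 ⊗ [q]`. -/
noncomputable def e (q : ℚ) : V ⊗[Polynomial k] (AddMonoidAlgebra k ℚ) :=
  (1 : V) ⊗ₜ[Polynomial k] (AddMonoidAlgebra.single q (1 : k) : AddMonoidAlgebra k ℚ)

theorem e_zero : e V k 0 = 1 := rfl

theorem e_add (q r : ℚ) : e V k (q + r) = e V k q * e V k r := by
  rw [e, e, e, Algebra.TensorProduct.tmul_mul_tmul, AddMonoidAlgebra.single_mul_single, one_mul,
    one_mul]

theorem e_nsmul (n : ℕ) (q : ℚ) : e V k (n * q) = e V k q ^ n := by
  induction n with
  | zero => simp [e_zero]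
  | succ n ih => rw [pow_succ, ← ih, ← e_add]; congr 1; push_cast; ring

theorem e_one {π : V} (hX : algebraMap (Polynomial k) V X = π) :
    e V k 1 = algebraMap V (V ⊗[Polynomial k] (AddMonoidAlgebra k ℚ)) π := by
  have h1 : (AddMonoidAlgebra.single 1 1 : AddMonoidAlgebra k ℚ) =
      (X : Polynomial k) • (1 : AddMonoidAlgebra k ℚ) := by
    rw [Algebra.smul_def, mul_one]
    exact (Polynomial.aeval_X _).symm
  have h2 : (X : Polynomial k) • (1 : V) = π := by
    rw [Algebra.smul_def, mul_one, hX]
  rw [e, h1, ← TensorProduct.smul_tmul, h2]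
  rfl

theorem tmul_single (v : V) (q : ℚ) (c : k) :
    v ⊗ₜ[Polynomial k] (AddMonoidAlgebra.single q c : AddMonoidAlgebra k ℚ) =
      algebraMap V (V ⊗[Polynomial k] (AddMonoidAlgebra k ℚ)) (algebraMap k V c * v) *
        e V k q := by
  have h1 : (AddMonoidAlgebra.single q c : AddMonoidAlgebra k ℚ) =
      (C c : Polynomial k) • (AddMonoidAlgebra.single q 1 : AddMonoidAlgebra k ℚ) := by
    rw [Algebra.smul_def]
    have : algebraMap (Polynomial k) (AddMonoidAlgebra k ℚ) (C c) =
        algebraMap k (AddMonoidAlgebra k ℚ) c := Polynomial.aeval_C _ _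
    rw [this, ← Algebra.smul_def, AddMonoidAlgebra.smul_single, smul_eq_mul, mul_one]
  have h2 : (C c : Polynomial k) • v = algebraMap k V c * v := by
    rw [Algebra.smul_def, IsScalarTower.algebraMap_apply k (Polynomial k) V]
    rfl
  rw [h1, ← TensorProduct.smul_tmul, h2, e, Algebra.TensorProduct.algebraMap_apply,
    Algebra.TensorProduct.tmul_mul_tmul, mul_one, one_mul]
  rfl

/-- The `V`-algebra map `V[Y] → T`, `Y ↦ [1/N]`. -/
noncomputable def G (N : ℕ) : Polynomial V →ₐ[V] V ⊗[Polynomial k] (AddMonoidAlgebra k ℚ) :=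
  Polynomial.aeval (e V k (1 / N))

theorem G_X_pow_mul {N : ℕ} (hN : N ≠ 0) (n : ℕ) : G V k N (X ^ (N * n)) = e V k n := by
  rw [G, map_pow, Polynomial.aeval_X, ← e_nsmul]
  congr 1
  push_cast
  field_simp

theorem G_expand {N N' : ℕ} (hN : N ≠ 0) (hN' : N' ≠ 0) (f : Polynomial V) :
    G V k (N * N') (Polynomial.expand V N' f) = G V k N f := by
  rw [G, Polynomial.expand_aeval, G, ← e_nsmul]
  congr 3
  push_cast
  field_simp

theorem exists_rep (x : V ⊗[Polynomial k] (AddMonoidAlgebra k ℚ)) :
    ∃ (N : ℕ) (_ : N ≠ 0) (M : ℕ) (f : Polynomial V), e V k M * x = G V k N f := by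
  have hadd : ∀ x y : V ⊗[Polynomial k] (AddMonoidAlgebra k ℚ),
      (∃ (N : ℕ) (_ : N ≠ 0) (M : ℕ) (f : Polynomial V), e V k M * x = G V k N f) →
      (∃ (N : ℕ) (_ : N ≠ 0) (M : ℕ) (f : Polynomial V), e V k M * y = G V k N f) →
      (∃ (N : ℕ) (_ : N ≠ 0) (M : ℕ) (f : Polynomial V), e V k M * (x + y) = G V k N f) := by
    rintro x y ⟨N, hN, M, f, hf⟩ ⟨N', hN', M', f', hf'⟩
    refine ⟨N * N', mul_ne_zero hN hN', M + M',
      X ^ (N * N' * M') * Polynomial.expand V N' f + X ^ (N * N' * M) * Polynomial.expand V N f', ?_⟩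
    rw [map_add, map_mul, map_mul, G_expand V k hN hN', G_X_pow_mul V k (mul_ne_zero hN hN'),
      G_X_pow_mul V k (mul_ne_zero hN hN'), mul_comm N N', G_expand V k hN' hN, ← hf, ← hf',
      Nat.cast_add, e_add]
    ring
  induction x using TensorProduct.induction_on with
  | zero => exact ⟨1, one_ne_zero, 0, 0, by rw [mul_zero, map_zero]⟩
  | add x y hx hy => exact hadd x y hx hy
  | tmul v y =>
    induction y using AddMonoidAlgebra.induction_linear with
    | zero => exact ⟨1, one_ne_zero, 0, 0, by rw [TensorProduct.tmul_zero, mul_zero, map_zero]⟩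
    | add x y hx hy => rw [TensorProduct.tmul_add]; exact hadd _ _ hx hy
    | single q c =>
      have hN : q.den ≠ 0 := q.den_nz
      obtain ⟨j, hj⟩ : ∃ j : ℕ, (j : ℤ) = (q.num.natAbs : ℤ) * (q.den : ℤ) + q.num := by
        refine ⟨((q.num.natAbs : ℤ) * (q.den : ℤ) + q.num).toNat, Int.toNat_of_nonneg ?_⟩
        have h1 : (1 : ℤ) ≤ q.den := by exact_mod_cast q.den_pos
        have h2 : -(q.num.natAbs : ℤ) ≤ q.num := by omega
        have h3 : (0 : ℤ) ≤ q.num.natAbs := by positivity
        nlinarith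
      refine ⟨q.den, hN, q.num.natAbs, C (algebraMap k V c * v) * X ^ j, ?_⟩
      rw [tmul_single, G, map_mul (Polynomial.aeval _), Polynomial.aeval_C, map_pow,
        Polynomial.aeval_X, ← e_nsmul, mul_left_comm, ← e_add]
      congr 2
      have hq : (q.num : ℚ) / q.den = q := Rat.num_div_den q
      have hden : (q.den : ℚ) ≠ 0 := by exact_mod_cast hN
      have hj' : (j : ℚ) = (q.num.natAbs : ℚ) * (q.den : ℚ) + (q.num : ℚ) := by
        have h := congrArg (Int.cast : ℤ → ℚ) hj
        rw [Int.cast_add, Int.cast_mul, Int.cast_natCast, Int.cast_natCast, Int.cast_natCast] at h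
        exact h
      rw [hj']
      nth_rewrite 2 [← hq]
      field_simp

end tensor

section main

variable (V k : Type u) [CommRing V] [IsDomain V] [IsDiscreteValuationRing V]
  [HenselianLocalRing V] [IsSepClosed (IsLocalRing.ResidueField V)]
  [CharZero (IsLocalRing.ResidueField V)] [Field k] [Algebra k V] [Algebra (Polynomial k) V]
  [IsScalarTower k (Polynomial k) V]
  (K Ω : Type u) [Field K] [Algebra V K] [IsFractionRing V K] [Field Ω] [Algebra K Ω]
  [IsSepClosure K Ω] [Algebra V Ω] [IsScalarTower V K Ω]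

/-- The map `V ⊗[k[X]] k[ℚ] → Ω` attached to a system of roots of the uniformizer. -/
theorem exists_hom {π : V} (hX : algebraMap (Polynomial k) V X = π)
    (p : ℚ →+ Additive Ωˣ) (hp : ((p 1).toMul : Ω) = algebraMap V Ω π) :
    ∃ Φ : V ⊗[Polynomial k] (AddMonoidAlgebra k ℚ) →ₐ[V] Ω,
      ∀ q : ℚ, Φ (e V k q) = ((p q).toMul : Ω) := by
  let _ : Algebra k Ω := ((algebraMap V Ω).comp (algebraMap k V)).toAlgebra
  let _ : Algebra (Polynomial k) Ω :=
    ((algebraMap V Ω).comp (algebraMap (Polynomial k) V)).toAlgebra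
  have : IsScalarTower k V Ω := IsScalarTower.of_algebraMap_eq fun _ => rfl
  have : IsScalarTower (Polynomial k) V Ω := IsScalarTower.of_algebraMap_eq fun _ => rfl
  let F : Multiplicative ℚ →* Ω :=
    { toFun := fun q => ((p q.toAdd).toMul : Ω)
      map_one' := by
        rw [toAdd_one, map_zero]; rfl
      map_mul' := fun a b => by
        rw [toAdd_mul, map_add, toMul_add, Units.val_mul] }
  let g₀ : AddMonoidAlgebra k ℚ →ₐ[k] Ω := AddMonoidAlgebra.lift k Ω ℚ F
  have hg₀ : ∀ q : ℚ, g₀ (AddMonoidAlgebra.single q 1) = ((p q).toMul : Ω) := by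
    intro q
    rw [AddMonoidAlgebra.lift_single, one_smul]
    rfl
  have hcomm : ∀ f : Polynomial k, g₀ (algebraMap (Polynomial k) (AddMonoidAlgebra k ℚ) f) =
      algebraMap (Polynomial k) Ω f := by
    intro f
    have h : g₀.comp (Polynomial.aeval (AddMonoidAlgebra.single 1 1)) =
        (IsScalarTower.toAlgHom k V Ω).comp (IsScalarTower.toAlgHom k (Polynomial k) V) := by
      apply Polynomial.algHom_ext
      rw [AlgHom.comp_apply, AlgHom.comp_apply, Polynomial.aeval_X, hg₀, hp,
        IsScalarTower.coe_toAlgHom', IsScalarTower.coe_toAlgHom', hX]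
    exact DFunLike.congr_fun h f
  let g : AddMonoidAlgebra k ℚ →ₐ[Polynomial k] Ω := { g₀ with commutes' := hcomm }
  refine ⟨Algebra.TensorProduct.lift (Algebra.ofId V Ω) g (fun _ _ => Commute.all _ _), fun q => ?_⟩
  rw [e, Algebra.TensorProduct.lift_tmul, map_one, one_mul]
  exact hg₀ q

include K in
theorem bijective_of {π : V} (hπ : Irreducible π) (hX : algebraMap (Polynomial k) V X = π)
    (p : ℚ →+ Additive Ωˣ) (hp : ((p 1).toMul : Ω) = algebraMap V Ω π)
    (Φ : V ⊗[Polynomial k] (AddMonoidAlgebra k ℚ) →ₐ[V] Ω)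
    (hΦ : ∀ q : ℚ, Φ (e V k q) = ((p q).toMul : Ω)) : Function.Bijective Φ := by
  constructor
  · rw [injective_iff_map_eq_zero]
    intro x hx
    obtain ⟨N, hN, M, f, hf⟩ := exists_rep V k x
    set θ : Ω := ((p (1 / N)).toMul : Ω) with hθ
    have hθN : θ ^ N = algebraMap V Ω π := PuiseuxField.pow_eq hp hN
    -- reduce modulo `Y ^ N - π`
    have hmon : (X ^ N - C π : V[X]).Monic := monic_X_pow_sub_C _ hN
    have hG0 : G V k N (X ^ N - C π) = 0 := by
      have h1 := G_X_pow_mul V k hN 1
      rw [mul_one, Nat.cast_one] at h1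
      rw [map_sub, h1, G, Polynomial.aeval_C, e_one V k hX, sub_self]
    set r := f %ₘ (X ^ N - C π) with hr
    have hGr : G V k N f = G V k N r := by
      conv_lhs => rw [← modByMonic_add_div f (X ^ N - C π), map_add, map_mul, hG0, zero_mul, add_zero]
    have hr0 : r = 0 := by
      have h1 : Φ (G V k N r) = 0 := by
        rw [← hGr, ← hf, map_mul, hx, mul_zero]
      have h2 : Φ (G V k N r) = aeval θ r := by
        rw [G, ← Polynomial.aeval_algHom_apply, hΦ]
      rw [h2] at h1
      have hdeg : r.natDegree < N := by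
        have := natDegree_modByMonic_lt f hmon (by
          intro h
          have := congrArg natDegree h
          rw [natDegree_X_pow_sub_C, natDegree_one] at this
          exact hN this)
        rwa [natDegree_X_pow_sub_C] at this
      have h3 : minpoly K θ = X ^ N - C (algebraMap V K π) := by
        symm
        apply minpoly.eq_of_irreducible_of_monic
          (Groth.Agent.Sga4h.TameExt.irreducible_X_pow_sub_C K hN hπ)
        · simp [hθN, ← IsScalarTower.algebraMap_apply]
        · exact monic_X_pow_sub_C _ hN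
      have h4 : aeval θ (r.map (algebraMap V K)) = 0 := by
        rw [aeval_map_algebraMap, h1]
      by_contra hne
      have hne' : r.map (algebraMap V K) ≠ 0 := by
        rwa [Ne, Polynomial.map_eq_zero_iff (IsFractionRing.injective V K)]
      have h5 := Polynomial.natDegree_le_of_dvd (minpoly.dvd K θ h4) hne'
      rw [h3, natDegree_X_pow_sub_C] at h5
      have h6 := natDegree_map_le (f := algebraMap V K) (p := r)
      omega
    rw [hGr, hr0, map_zero] at hf
    have h7 : e V k (-(M : ℚ)) * e V k M = 1 := by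
      rw [← e_add, neg_add_cancel, e_zero]
    calc x = e V k (-(M : ℚ)) * (e V k M * x) := by rw [← mul_assoc, h7, one_mul]
      _ = 0 := by rw [hf, mul_zero]
  · rw [← AlgHom.range_eq_top]
    exact PuiseuxField.eq_top_of_forall_mem V K Ω hπ hp _ fun q => ⟨e V k q, hΦ q⟩

end main

end withAlgQ

/-- Puiseux' theorem. -/
theorem puiseux (V k : Type u) [CommRing V] [IsDomain V] [IsDiscreteValuationRing V]
    [HenselianLocalRing V] [IsSepClosed (IsLocalRing.ResidueField V)]
    [CharZero (IsLocalRing.ResidueField V)] [Field k] [Algebra k V] (π : V) (hπ : Irreducible π)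
    (K Ω : Type u) [Field K] [Algebra V K] [IsFractionRing V K] [Field Ω] [Algebra K Ω]
    [IsSepClosure K Ω] [Algebra V Ω] [IsScalarTower V K Ω] :
    letI : Algebra (Polynomial k) V := (Polynomial.aeval π).toAlgebra
    letI : Algebra (Polynomial k) (AddMonoidAlgebra k ℚ) :=
      (Polynomial.aeval (AddMonoidAlgebra.single 1 1)).toAlgebra
    Nonempty (V ⊗[Polynomial k] (AddMonoidAlgebra k ℚ) ≃ₐ[V] Ω) := by
  let _ : Algebra (Polynomial k) V := (Polynomial.aeval π).toAlgebra
  have : IsScalarTower k (Polynomial k) V := by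
    refine IsScalarTower.of_algebraMap_eq fun c => ?_
    exact (Polynomial.aeval_C π c).symm
  have hX : algebraMap (Polynomial k) V X = π := Polynomial.aeval_X _
  obtain ⟨p, hp⟩ := PuiseuxField.exists_system V K Ω hπ
  obtain ⟨Φ, hΦ⟩ := exists_hom V k Ω hX p hp
  exact ⟨AlgEquiv.ofBijective Φ (bijective_of V k K Ω hπ hX p hp Φ hΦ)⟩

end Groth.Agent.Sga7.H520.Puiseux
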