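import Groth.Agent.Sga4h.TameExt
import Mathlib.Algebra.Category.Grp.Injective
import Mathlib.RingTheory.RootsOfUnity.AlgebraicallyClosed

/-!
# Field part of Puiseux' theorem

`V` strictly henselian DVR of residue characteristic zero, uniformizer `π`, `K = Frac V`, `Ω` a
separable closure of `K`.

* `exists_primitiveRoot`: `V` contains primitive `m`-th roots of unity.
* `exists_system`: a homomorphism `p : ℚ → Ωˣ` with `p 1 = π`.
* `mem_range_of`: a `V`-subalgebra of `Ω` containing all `p q` is everything.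
-/

set_option autoImplicit false
set_option linter.unusedSectionVars false

universe u

namespace Groth.Agent.Sga7.H520.PuiseuxField

open IsLocalRing Polynomial

section dvr

variable (V : Type u) [CommRing V] [IsDomain V] [HenselianLocalRing V]
  [IsSepClosed (ResidueField V)] [CharZero (ResidueField V)]

theorem isUnit_natCast {n : ℕ} (hn : n ≠ 0) : IsUnit (n : V) := by
  rw [← residue_ne_zero_iff_isUnit, map_natCast]
  exact_mod_cast hn

theorem charZero : CharZero V := by
  refine ⟨fun a b hab => ?_⟩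
  have := congrArg (residue V) hab
  simpa using this

theorem exists_primitiveRoot {m : ℕ} (hm : m ≠ 0) : ∃ ξ : V, IsPrimitiveRoot ξ m := by
  have : NeZero m := ⟨hm⟩
  have : NeZero (m : ResidueField V) := ⟨by exact_mod_cast hm⟩
  obtain ⟨z, hz⟩ := HasEnoughRootsOfUnity.exists_primitiveRoot (ResidueField V) m
  obtain ⟨b₀, hb₀⟩ := residue_surjective z
  have hmon : (X ^ m - C (1 : V)).Monic := monic_X_pow_sub_C _ hm
  have h1 : (X ^ m - C (1 : V)).eval b₀ ∈ maximalIdeal V := by
    rw [← residue_eq_zero_iff]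
    simp [hb₀, hz.pow_eq_one]
  have hz0 : z ≠ 0 := hz.ne_zero hm
  have hb₀u : IsUnit b₀ := by
    rw [← residue_ne_zero_iff_isUnit, hb₀]
    exact hz0
  have h2 : IsUnit ((X ^ m - C (1 : V)).derivative.eval b₀) := by
    simp only [derivative_sub, derivative_X_pow, derivative_C, sub_zero, eval_mul, eval_natCast,
      eval_pow, eval_X, map_natCast]
    exact (isUnit_natCast V hm).mul (hb₀u.pow _)
  obtain ⟨b, hb, hb'⟩ := HenselianLocalRing.is_henselian _ hmon b₀ h1 h2
  have hbm : b ^ m = 1 := by
    simpa [IsRoot.def, sub_eq_zero] using hb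
  refine ⟨b, hbm, fun l hl => ?_⟩
  have hres : residue V b = z := by
    rw [← hb₀, ← sub_eq_zero, ← map_sub, residue_eq_zero_iff]
    exact hb'
  apply hz.dvd_of_pow_eq_one
  rw [← hres, ← map_pow, hl, map_one]

end dvr

section field

variable (V : Type u) [CommRing V] [IsDomain V] [IsDiscreteValuationRing V] [HenselianLocalRing V]
  [IsSepClosed (ResidueField V)] [CharZero (ResidueField V)]
  (K Ω : Type u) [Field K] [Algebra V K] [IsFractionRing V K] [Field Ω] [Algebra K Ω]
  [IsSepClosure K Ω] [Algebra V Ω] [IsScalarTower V K Ω]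

include K in
theorem algebraMap_injective : Function.Injective (algebraMap V Ω) := by
  rw [IsScalarTower.algebraMap_eq V K Ω]
  exact (algebraMap K Ω).injective.comp (IsFractionRing.injective V K)

include K in
theorem exists_system {π : V} (hπ : Irreducible π) :
    ∃ p : ℚ →+ Additive Ωˣ, ((p 1).toMul : Ω) = algebraMap V Ω π := by
  have hsc : IsSepClosed Ω := IsSepClosure.sep_closed K
  have hinj := algebraMap_injective V K Ω
  have hV := charZero V
  have : CharZero Ω := charZero_of_injective_algebraMap hinj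
  have h0 : algebraMap V Ω π ≠ 0 := fun h => hπ.ne_zero (hinj (by rw [h, map_zero]))
  let _ : DivisibleBy (Additive Ωˣ) ℤ := by
    apply divisibleByOfSMulRightSurj
    intro n hn a
    -- reduce to natural numbers
    have hn' : n.natAbs ≠ 0 := by omega
    have : NeZero (n.natAbs : Ω) := ⟨by exact_mod_cast hn'⟩
    obtain ⟨z, hz⟩ := IsSepClosed.exists_pow_nat_eq ((a.toMul : Ωˣ) : Ω) n.natAbs
    have hz0 : z ≠ 0 := by
      rintro rfl
      rw [zero_pow hn'] at hz
      exact (a.toMul : Ωˣ).ne_zero hz.symm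
    have hz' : (Units.mk0 z hz0) ^ n.natAbs = a.toMul := Units.ext (by simpa using hz)
    have hz'' : n.natAbs • (Additive.ofMul (Units.mk0 z hz0)) = a := by
      rw [← ofMul_pow, hz']; rfl
    rcases Int.natAbs_eq n with h | h
    · refine ⟨Additive.ofMul (Units.mk0 z hz0), ?_⟩
      simp only
      rw [h, natCast_zsmul, hz'']
    · refine ⟨-Additive.ofMul (Units.mk0 z hz0), ?_⟩
      simp only
      rw [h, neg_smul_neg, natCast_zsmul, hz'']
  have hB := Module.Baer.of_divisible (Additive Ωˣ)
  obtain ⟨p, hp⟩ := hB.extension_property_addMonoidHom (Int.castAddHom ℚ)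
    (fun a b h => by simpa using h) (zmultiplesHom (Additive Ωˣ) (Additive.ofMul (Units.mk0 _ h0)))
  refine ⟨p, ?_⟩
  have := DFunLike.congr_fun hp 1
  simp only [AddMonoidHom.comp_apply, Int.coe_castAddHom, Int.cast_one, zmultiplesHom_apply,
    one_smul] at this
  rw [this]
  rfl

variable {V Ω}

theorem pow_eq {π : V} {p : ℚ →+ Additive Ωˣ} (hp : ((p 1).toMul : Ω) = algebraMap V Ω π)
    {m : ℕ} (hm : m ≠ 0) : ((p (1 / m)).toMul : Ω) ^ m = algebraMap V Ω π := by
  rw [← hp, ← Units.val_pow_eq_pow_val, ← toMul_nsmul, ← map_nsmul]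
  congr 3
  rw [nsmul_eq_mul]
  field_simp

variable (V Ω)

include K in
open IntermediateField in
/-- A `V`-subalgebra of `Ω` containing all the `p q` is everything. -/
theorem eq_top_of_forall_mem {π : V} (hπ : Irreducible π) {p : ℚ →+ Additive Ωˣ}
    (hp : ((p 1).toMul : Ω) = algebraMap V Ω π) (S : Subalgebra V Ω)
    (hS : ∀ q : ℚ, ((p q).toMul : Ω) ∈ S) : S = ⊤ := by
  have hsc : IsSepClosed Ω := IsSepClosure.sep_closed K
  have hsep : Algebra.IsSeparable K Ω := IsSepClosure.separable
  have hinj := algebraMap_injective V K Ω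
  have h0 : algebraMap V Ω π ≠ 0 := fun h => hπ.ne_zero (hinj (by rw [h, map_zero]))
  have hR : EtCoh.IsStrictlyHenselianLocalRing V := ⟨inferInstance, inferInstance⟩
  have hinv : (algebraMap V Ω π)⁻¹ ∈ S := by
    have h1 := hS (-1)
    rw [map_neg, toMul_neg, Units.val_inv_eq_inv_val, hp] at h1
    exact h1
  have hK : ∀ x : K, algebraMap K Ω x ∈ S := by
    intro x
    obtain ⟨a, b, hb, rfl⟩ := IsFractionRing.div_surjective (A := V) x
    obtain ⟨n, u, hu⟩ := IsDiscreteValuationRing.eq_unit_mul_pow_irreducible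
      (nonZeroDivisors.ne_zero hb) hπ
    rw [map_div₀, ← IsScalarTower.algebraMap_apply, ← IsScalarTower.algebraMap_apply, hu, map_mul,
      div_eq_mul_inv, mul_inv, map_pow, ← inv_pow]
    refine S.mul_mem (S.algebraMap_mem _) (S.mul_mem ?_ (S.pow_mem hinv _))
    have h2 : (algebraMap V Ω (u : V))⁻¹ = algebraMap V Ω ((u⁻¹ : Vˣ) : V) := by
      rw [inv_eq_iff_eq_inv, eq_comm, inv_eq_of_mul_eq_one_left]
      rw [← map_mul, Units.mul_inv, map_one]
    rw [h2]
    exact S.algebraMap_mem _
  rw [eq_top_iff]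
  rintro ω -
  let L : IntermediateField K Ω := K⟮ω⟯
  have : FiniteDimensional K L :=
    IntermediateField.adjoin.finiteDimensional (Algebra.IsIntegral.isIntegral ω)
  have : Algebra.IsSeparable K L := Algebra.isSeparable_tower_bot_of_isSeparable K L Ω
  have hm : Module.finrank K L ≠ 0 := Module.finrank_pos.ne'
  obtain ⟨y, hy⟩ := Groth.Agent.Sga4h.TameExt.exists_pow_eq V K L hR
    (isUnit_natCast V hm) hπ
  set m := Module.finrank K L with hmdef
  have hfin : Module.finrank K K⟮y⟯ = m :=
    Groth.Agent.Sga4h.TameExt.finrank_adjoin_root V K L hm hπ hy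
  have htop : K⟮y⟯ = (⊤ : IntermediateField K L) := by
    apply IntermediateField.eq_of_le_of_finrank_eq le_top
    rw [hfin, IntermediateField.finrank_top']
  -- `y` lies in `S`
  have hyS : (y : Ω) ∈ S := by
    obtain ⟨ξ, hξ⟩ := exists_primitiveRoot V hm
    have hξ' : IsPrimitiveRoot (algebraMap V Ω ξ) m := hξ.map_of_injective hinj
    set θ : Ω := ((p (1 / m)).toMul : Ω) with hθ
    have hθm : θ ^ m = algebraMap V Ω π := pow_eq hp hm
    have hθ0 : θ ≠ 0 := Units.ne_zero _
    have hym : (y : Ω) ^ m = algebraMap V Ω π := by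
      have := congrArg (algebraMap L Ω) hy
      rw [map_pow, IsScalarTower.algebraMap_apply V K L, ← IsScalarTower.algebraMap_apply K L Ω,
        ← IsScalarTower.algebraMap_apply V K Ω] at this
      exact this
    have h1 : ((y : Ω) / θ) ^ m = 1 := by
      rw [div_pow, hym, hθm, div_self h0]
    have : NeZero m := ⟨hm⟩
    obtain ⟨i, -, hi⟩ := hξ'.eq_pow_of_pow_eq_one h1
    have h2 : (y : Ω) = algebraMap V Ω (ξ ^ i) * θ := by
      rw [map_pow, hi, div_mul_cancel₀ _ hθ0]
    rw [h2]
    exact S.mul_mem (S.algebraMap_mem _) (hS _)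
  let SK : Subalgebra K Ω :=
    { carrier := S
      mul_mem' := S.mul_mem
      add_mem' := S.add_mem
      algebraMap_mem' := hK }
  have hle : K⟮y⟯.toSubalgebra ≤ SK.comap L.val := by
    rw [IntermediateField.adjoin_simple_toSubalgebra_of_isAlgebraic
      (Algebra.IsAlgebraic.isAlgebraic y), Algebra.adjoin_le_iff, Set.singleton_subset_iff]
    exact hyS
  have hω : (⟨ω, mem_adjoin_simple_self K ω⟩ : L) ∈ K⟮y⟯.toSubalgebra := by
    rw [htop]; trivial
  exact hle hω

end field

end Groth.Agent.Sga7.H520.PuiseuxField
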